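import Cfsg.Agent.MTwelveCover.Tails
import Cfsg.Agent.Schur.PcPerm
import Mathlib.Algebra.BigOperators.GroupWithZero.Action

/-!
# A bound on the whole `p`-part of the Schur multiplier

The certificate expresses every tail as a power of one distinguished element times a combination of
chosen elements following the abelianised relator. A product of tails with trivial abelianised
relator is then a power of the distinguished element.
-/

set_option autoImplicit false
set_option linter.style.haveILetI false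

namespace CfsgLib.MTwelveCover

open CfsgLib.Schur CfsgLib.Schur.Pc
open scoped commutatorElement IsMulCommutative

/-- The integral part of a certificate: `tgt` is the distinguished element, `sec` the chosen
elements, `alpha` and `beta` the exponents of the rules on them, `combo` the combinations of
equations proving this, `sq` the one for `tgt` to the power `k`; `Q` and `D` recover `beta`. -/
structure Span where
  tgt : List ℤ
  sec : List (List ℤ)
  alpha : List ℤ
  beta : List (List ℤ)
  combo : List (List (ℕ × ℤ))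
  sq : List (ℕ × ℤ)
  D : ℕ
  Q : List (List ℤ)

/-- Signed number of occurrences. -/
def excess (e : List ℕ × List ℕ) (i : ℕ) : ℤ := (e.1.count i : ℤ) - e.2.count i

/-- A coordinate of a combination of equations. -/
def comb (eqs : List (List ℕ × List ℕ)) (cs : List (ℕ × ℤ)) (i : ℕ) : ℤ :=
  (cs.map fun c => c.2 * excess (eqs.getD c.1 ([], [])) i).sum

/-- All checks. -/
def spanOK (C : Cert) (S : Span) (k : ℕ) : Bool :=
  shaped C.p C.n C.rules && C.equations == C.eqs &&
    C.eqs.all (fun e => (e.1 ++ e.2).all fun a => decide (a < C.unknowns)) &&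
    C.rules.all (fun l => (l.1 ++ l.2).all fun a => decide (a < C.n)) && decide (0 < S.D) &&
    (List.range C.unknowns).all (fun i => (k : ℤ) * S.tgt.getD i 0 == comb C.eqs S.sq i) &&
    (List.range C.rules.length).all fun r =>
      ((List.range C.unknowns).all fun i =>
        (if r = i then 1 else 0) == S.alpha.getD r 0 * S.tgt.getD i 0 +
          ((List.range C.n).map fun j => (S.beta.getD r []).getD j 0 * (S.sec.getD j []).getD i 0).sum +
          comb C.eqs (S.combo.getD r []) i) &&
      (List.range C.n).all fun j =>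
        (S.D : ℤ) * (S.beta.getD r []).getD j 0 ==
          ((List.range C.n).map fun l => excess (C.rules.getD r ([], [])) l * (S.Q.getD l []).getD j 0).sum

section

variable {A : Type*} [CommGroup A]

/-- Product of powers of the first `U` elements. -/
def evZ (t : ℕ → A) (U : ℕ) (v : ℕ → ℤ) : A := ∏ i ∈ Finset.range U, t i ^ v i

theorem evZ_congr (t : ℕ → A) {U : ℕ} {v w : ℕ → ℤ} (h : ∀ i < U, v i = w i) :
    evZ t U v = evZ t U w :=
  Finset.prod_congr rfl fun i hi => by rw [h i (Finset.mem_range.mp hi)]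

theorem evZ_add (t : ℕ → A) (U : ℕ) (v w : ℕ → ℤ) :
    evZ t U (fun i => v i + w i) = evZ t U v * evZ t U w := by
  simp only [evZ, zpow_add, Finset.prod_mul_distrib]

theorem evZ_mul (t : ℕ → A) (U : ℕ) (c : ℤ) (v : ℕ → ℤ) :
    evZ t U (fun i => c * v i) = evZ t U v ^ c := by
  simp only [evZ, ← Finset.prod_zpow, ← zpow_mul, mul_comm c]

theorem evZ_zero (t : ℕ → A) (U : ℕ) : evZ t U (fun _ => 0) = 1 := by simp [evZ]

theorem evZ_single (t : ℕ → A) {U r : ℕ} (hr : r < U) :
    evZ t U (fun i => if r = i then 1 else 0) = t r := by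
  rw [evZ, Finset.prod_eq_single r]
  · simp
  · intro i _ hi; simp [Ne.symm hi]
  · intro h; exact absurd (Finset.mem_range.mpr hr) h

theorem evZ_sum (t : ℕ → A) (U : ℕ) {ι : Type*} (L : List ι) (f : ι → ℕ → ℤ) :
    evZ t U (fun i => (L.map fun a => f a i).sum) = (L.map fun a => evZ t U (f a)).prod := by
  induction L with
  | nil => simp [evZ_zero]
  | cons a L ih => simp only [List.map_cons, List.sum_cons, List.prod_cons, evZ_add, ih]

theorem evZ_excess (t : ℕ → A) {U : ℕ} {e : List ℕ × List ℕ}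
    (h : ∀ a ∈ e.1 ++ e.2, a < U) : evZ t U (excess e) = ev t e.1 / ev t e.2 := by
  simp only [List.mem_append] at h
  rw [prod_eq_prod_range t e.1 fun a ha => h a (Or.inl ha),
    prod_eq_prod_range t e.2 fun a ha => h a (Or.inr ha), ← Finset.prod_div_distrib]
  refine Finset.prod_congr rfl fun i _ => ?_
  rw [excess, zpow_sub, zpow_natCast, zpow_natCast, div_eq_mul_inv]

theorem evZ_comb (t : ℕ → A) {U : ℕ} {eqs : List (List ℕ × List ℕ)}
    (hlt : ∀ e ∈ eqs, ∀ a ∈ e.1 ++ e.2, a < U) (he : ∀ e ∈ eqs, ev t e.1 = ev t e.2)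
    (cs : List (ℕ × ℤ)) : evZ t U (comb eqs cs) = 1 := by
  have hrw : evZ t U (comb eqs cs) =
      (cs.map fun c => evZ t U fun i => c.2 * excess (eqs.getD c.1 ([], [])) i).prod :=
    evZ_sum t U cs fun c i => c.2 * excess (eqs.getD c.1 ([], [])) i
  rw [hrw]
  refine List.prod_eq_one fun y hy => ?_
  obtain ⟨c, -, rfl⟩ := List.mem_map.mp hy
  rw [evZ_mul]
  have : evZ t U (excess (eqs.getD c.1 ([], []))) = 1 := by
    by_cases h : c.1 < eqs.length
    · rw [List.getD_eq_getElem _ _ h, evZ_excess t (hlt _ (List.getElem_mem h)),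
        he _ (List.getElem_mem h), div_self']
    · rw [List.getD_eq_default _ _ (Nat.le_of_not_lt h), evZ_excess t (by simp)]
      simp
  rw [this, one_zpow]

end

/-- Standard basis vector of `ZMod M ^ n`, written multiplicatively. -/
def basisVec (M n : ℕ) (i : ℕ) : Multiplicative (Fin n → ZMod M) :=
  Multiplicative.ofAdd fun j => if i = j.1 then 1 else 0

theorem toAdd_ev_basisVec (M n : ℕ) (w : List ℕ) (j : Fin n) :
    Multiplicative.toAdd (ev (basisVec M n) w) j = (w.count j.1 : ZMod M) := by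
  induction w with
  | nil => simp
  | cons a w ih =>
    rw [ev_cons, toAdd_mul, Pi.add_apply, ih, List.count_cons]
    by_cases h : a = j.1 <;> simp [basisVec, h, add_comm]

variable {G Γ : Type*} [Group G] [Group Γ]

/-- Index powers of the kernel of a stem extension lie in one cyclic group of bounded order. -/
theorem ker_pow_mem_zpowers [Finite Γ] (C : Cert) (S : Span) (k : ℕ) (σ : Γ →* G)
    (hσ : Cfsg.IsStemExtension σ) (hok : spanOK C S k = true) (x : ℕ → G)
    (hrules : ∀ q ∈ C.rules, ev x q.1 = ev x q.2)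
    (hfus : ∀ F ∈ C.fus, ∃ g : G, ∀ s < C.fusW,
      g * ev x (F.1.getD s []) * g⁻¹ = ev x (F.2.getD s []))
    (hcard : C.p ^ C.n ≤ Nat.card (tailSubgroup x C.n 0)) :
    ∃ W ∈ σ.ker, W ^ k = 1 ∧
      ∀ z ∈ σ.ker, z ^ (tailSubgroup x C.n 0).index ∈ Subgroup.zpowers W := by
  classical
  simp only [spanOK, Bool.and_eq_true, beq_iff_eq, List.all_eq_true, decide_eq_true_eq,
    List.mem_range] at hok
  obtain ⟨⟨⟨⟨⟨⟨hshape, heqs⟩, hlt⟩, hgen⟩, hD⟩, hsq⟩, hspan⟩ := hok
  obtain ⟨Y, t, hY, htker, hH, heq⟩ := exists_tails C σ hσ x hrules hfus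
  rw [heqs] at heq
  obtain ⟨hsurj, hcen, hcomm⟩ := hσ
  haveI : Finite G := Finite.of_surjective σ hsurj
  let tc : ℕ → Subgroup.center Γ := fun i => ⟨t i, hcen (htker i)⟩
  have hval : ∀ w, ((ev tc w : Subgroup.center Γ) : Γ) = ev t w := fun w =>
    map_ev tc (Subgroup.center Γ).subtype w
  have heqc : ∀ e ∈ C.eqs, ev tc e.1 = ev tc e.2 := fun e he =>
    Subtype.ext (by rw [hval, hval, heq e he])
  let w₀ := evZ tc C.unknowns fun i => S.tgt.getD i 0
  have hevker : ∀ v, ((evZ tc C.unknowns v : Subgroup.center Γ) : Γ) ∈ σ.ker := by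
    intro v
    have : evZ tc C.unknowns v ∈ σ.ker.comap (Subgroup.center Γ).subtype :=
      prod_mem fun i _ => zpow_mem (Subgroup.mem_comap.mpr (htker i)) _
    exact this
  refine ⟨(w₀ : Γ), hevker _, ?_, ?_⟩
  · have h : w₀ ^ (k : ℤ) = 1 := by
      rw [← evZ_mul, evZ_congr tc (w := comb C.eqs S.sq) fun i hi => hsq i hi,
        evZ_comb tc hlt heqc]
    rw [← Subgroup.coe_pow, ← zpow_natCast, h, Subgroup.coe_one]
  let u : ℕ → Subgroup.center Γ := fun j => evZ tc C.unknowns fun i => (S.sec.getD j []).getD i 0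
  have hrule : ∀ r < C.rules.length, tc r = w₀ ^ S.alpha.getD r 0 *
      ((List.range C.n).map fun j => u j ^ (S.beta.getD r []).getD j 0).prod := by
    intro r hr
    have hrU : r < C.unknowns := by simp only [Cert.unknowns]; omega
    have := evZ_congr tc (fun i hi => (hspan r hr).1 i hi)
    rw [evZ_single tc hrU, evZ_add, evZ_add, evZ_comb tc hlt heqc, mul_one, evZ_mul] at this
    rw [this]
    congr 1
    rw [evZ_sum tc C.unknowns (List.range C.n)
      (fun j i => (S.beta.getD r []).getD j 0 * (S.sec.getD j []).getD i 0)]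
    simp only [u, evZ_mul]
  intro z hz
  let M := S.D * Nat.card Γ
  haveI : NeZero M := ⟨Nat.mul_ne_zero (by omega) Nat.card_pos.ne'⟩
  let A := Multiplicative (Fin C.n → ZMod M)
  let Y' : ℕ → Γ × A := fun i => (Y i, basisVec M C.n i)
  let t' : ℕ → Γ × A := fun r => if h : r < C.rules.length then
    (t r, (ev (basisVec M C.n) C.rules[r].2)⁻¹ * ev (basisVec M C.n) C.rules[r].1) else 1
  have hY' : ∀ w, ev Y' w = (ev Y w, ev (basisVec M C.n) w) := fun w =>
    Prod.ext (map_ev Y' (MonoidHom.fst Γ A) w) (map_ev Y' (MonoidHom.snd Γ A) w)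
  let T : Subgroup (Γ × A) := Subgroup.closure (Set.range t')
  have hTcen : ∀ e ∈ T, ∀ g : Γ × A, g * e = e * g := by
    intro e he
    have : T ≤ Subgroup.center (Γ × A) := by
      rw [Subgroup.closure_le]
      rintro _ ⟨r, rfl⟩
      rw [SetLike.mem_coe, Subgroup.mem_center_iff]
      intro g
      simp only [t']
      split_ifs
      · exact Prod.ext ((Subgroup.mem_center_iff.mp (hcen (htker r))) g.1) (mul_comm _ _)
      · simp
    exact Subgroup.mem_center_iff.mp (this he)
  haveI : T.Normal := ⟨fun e he g => by rwa [hTcen e he g, mul_inv_cancel_right]⟩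
  have hTker : T ≤ (σ.comp (MonoidHom.fst Γ A)).ker := by
    rw [Subgroup.closure_le]
    rintro _ ⟨r, rfl⟩
    simp only [t', SetLike.mem_coe, MonoidHom.mem_ker, MonoidHom.coe_comp, Function.comp_apply,
      MonoidHom.coe_fst]
    split_ifs
    · exact htker r
    · exact map_one σ
  let π := QuotientGroup.mk' T
  let τ : (Γ × A) ⧸ T →* G := QuotientGroup.lift T (σ.comp (MonoidHom.fst Γ A)) hTker
  have hexact : ∀ l ∈ C.rules, ev (fun i => π (Y' i)) l.1 = ev (fun i => π (Y' i)) l.2 := by
    intro l hl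
    obtain ⟨r, hr, rfl⟩ := List.getElem_of_mem hl
    rw [← map_ev Y' π, ← map_ev Y' π, hY', hY', hH r hr, Nat.zero_add]
    have : π (t' r) = 1 :=
      (QuotientGroup.eq_one_iff _).mpr (Subgroup.subset_closure ⟨r, rfl⟩)
    conv_rhs => rw [← mul_one (π _), ← this, ← map_mul]
    simp only [t', dif_pos hr, Prod.mk_mul_mk, mul_inv_cancel_left]
  let E := tailSubgroup Y' C.n 0
  let P := E.comap (MonoidHom.inl Γ A)
  let H := (tailSubgroup x C.n 0).comap σ
  have hHP : ⁅H, H⁆ ≤ P := by
    have hmapY : (tailSubgroup Y C.n 0).map σ = tailSubgroup x C.n 0 := by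
      simp only [tailSubgroup, MonoidHom.map_closure, Set.image_image, hY]
    have hmapE : E.map (MonoidHom.fst Γ A) = tailSubgroup Y C.n 0 := by
      simp only [E, tailSubgroup, MonoidHom.map_closure, Set.image_image]
      rfl
    have hlift : ∀ g ∈ H, ∃ s ∈ E, s.1⁻¹ * g ∈ Subgroup.center Γ := by
      intro g hg
      rw [Subgroup.mem_comap, ← hmapY, ← hmapE, Subgroup.map_map] at hg
      obtain ⟨s, hs, es⟩ := hg
      refine ⟨s, hs, hcen ?_⟩
      rw [MonoidHom.mem_ker, map_mul, map_inv, ← es]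
      simp
    rw [Subgroup.commutator_le]
    intro g hg h hh
    obtain ⟨a, ha, hga⟩ := hlift g hg
    obtain ⟨b, hb, hhb⟩ := hlift h hh
    rw [Subgroup.mem_comap]
    have : MonoidHom.inl Γ A ⁅g, h⁆ = ⁅a, b⁆ := by
      refine Prod.ext ?_ ?_
      · change ⁅g, h⁆ = (MonoidHom.fst Γ A) ⁅a, b⁆
        rw [map_commutatorElement]
        obtain ⟨c, hc, rfl⟩ : ∃ c ∈ Subgroup.center Γ, g = a.1 * c :=
          ⟨_, hga, (mul_inv_cancel_left a.1 g).symm⟩
        obtain ⟨d, hd, rfl⟩ : ∃ d ∈ Subgroup.center Γ, h = b.1 * d :=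
          ⟨_, hhb, (mul_inv_cancel_left b.1 h).symm⟩
        have hc' := comm_center hc
        have hd' := comm_center hd
        simp only [commutatorElement_def, mul_inv_rev, MonoidHom.coe_fst]
        rw [show a.1 * c * (b.1 * d) * (c⁻¹ * a.1⁻¹) * (d⁻¹ * b.1⁻¹) =
          a.1 * (c * b.1) * (d * c⁻¹) * a.1⁻¹ * d⁻¹ * b.1⁻¹ by group, hc' b.1, hd' c⁻¹,
          show a.1 * (b.1 * c) * (c⁻¹ * d) * a.1⁻¹ * d⁻¹ * b.1⁻¹ =
          a.1 * b.1 * (d * a.1⁻¹) * d⁻¹ * b.1⁻¹ by group, hd' a.1⁻¹]
        group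
      · change (1 : A) = (MonoidHom.snd Γ A) ⁅a, b⁆
        rw [map_commutatorElement, commutatorElement_eq_one_iff_commute.mpr (Commute.all _ _)]
    rw [this, commutatorElement_def]
    exact E.mul_mem (E.mul_mem (E.mul_mem ha hb) (E.inv_mem ha)) (E.inv_mem hb)
  have h1 : z ^ (tailSubgroup x C.n 0).index ∈ P := by
    have := pow_index_mem_commutator H (hcen hz) (hcomm hz)
    rw [Subgroup.index_comap_of_surjective _ hsurj] at this
    exact hHP this
  generalize hy : z ^ (tailSubgroup x C.n 0).index = y at h1 ⊢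
  have hyker : y ∈ σ.ker := hy ▸ pow_mem hz _
  have hyT : ((y, (1 : A)) : Γ × A) ∈ T := by
    let S' := tailSubgroup (fun i => π (Y' i)) C.n 0
    have hScard : Nat.card S' ≤ C.p ^ C.n :=
      card_tailSubgroup_le _ hshape hexact C.n 0 (Nat.zero_add _)
    have hmap : S'.map τ = tailSubgroup x C.n 0 := by
      simp only [S', tailSubgroup, MonoidHom.map_closure, Set.image_image]
      exact congrArg _ (Set.image_congr fun i _ => hY i)
    let f : S' → tailSubgroup x C.n 0 := fun s => ⟨τ s, hmap ▸ Subgroup.mem_map_of_mem τ s.2⟩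
    have hsur : Function.Surjective f := by
      rintro ⟨g, hg⟩
      rw [← hmap] at hg
      obtain ⟨s, hs, rfl⟩ := hg
      exact ⟨⟨s, hs⟩, rfl⟩
    have hbij : Function.Bijective f := hsur.bijective_of_nat_card_le (hScard.trans hcard)
    have hmem : π ((y, (1 : A)) : Γ × A) ∈ S' := by
      have : S' = E.map π := by
        simp only [S', E, tailSubgroup, MonoidHom.map_closure, Set.image_image]
      rw [this]
      exact Subgroup.mem_map_of_mem π h1
    have : (⟨_, hmem⟩ : S') = 1 := hbij.1 (Subtype.ext (by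
      change σ y = τ 1
      rw [map_one]; exact hyker))
    exact (QuotientGroup.eq_one_iff _).mp (congrArg Subtype.val this)
  let q : Fin C.n → Fin C.n → ZMod M := fun l j => ((S.Q.getD l.1 []).getD j.1 0 : ℤ)
  have key : ∀ e ∈ T, ∃ (m : ℤ) (β : Fin C.n → ℤ),
      e.1 = ((w₀ ^ m * ∏ j : Fin C.n, u j.1 ^ β j : Subgroup.center Γ) : Γ) ∧
      ∀ j, ((S.D : ℤ) * β j : ZMod M) = ∑ l, Multiplicative.toAdd e.2 l * q l j := by
    intro e he
    induction he using Subgroup.closure_induction with
    | mem e he =>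
      obtain ⟨r, rfl⟩ := he
      by_cases hr : r < C.rules.length
      · refine ⟨S.alpha.getD r 0, fun j => (S.beta.getD r []).getD j.1 0, ?_, fun j => ?_⟩
        · simp only [t', dif_pos hr]
          change (tc r : Γ) = _
          rw [hrule r hr, ← List.prod_toFinset _ List.nodup_range, List.toFinset_range,
            ← Fin.prod_univ_eq_prod_range (fun j => u j ^ (S.beta.getD r []).getD j 0) C.n]
        · simp only [t', dif_pos hr]
          rw [← Int.cast_mul, (hspan r hr).2 j j.2, List.getD_eq_getElem _ _ hr,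
            ← List.sum_toFinset _ List.nodup_range, List.toFinset_range,
            ← Fin.sum_univ_eq_sum_range (fun l => excess C.rules[r] l * (S.Q.getD l []).getD j.1 0),
            Int.cast_sum]
          refine Finset.sum_congr rfl fun l _ => ?_
          rw [toAdd_mul, toAdd_inv, Pi.add_apply, Pi.neg_apply, toAdd_ev_basisVec,
            toAdd_ev_basisVec]
          simp only [q, excess, Int.cast_mul, Int.cast_sub, Int.cast_natCast]
          ring
      · refine ⟨0, 0, ?_, fun j => ?_⟩
        · simp [t', dif_neg hr]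
        · simp [t', dif_neg hr]
    | one => exact ⟨0, 0, by simp, fun j => by simp⟩
    | mul a b _ _ ha hb =>
      obtain ⟨m, β, h₁, h₂⟩ := ha
      obtain ⟨m', β', h₁', h₂'⟩ := hb
      refine ⟨m + m', β + β', ?_, fun j => ?_⟩
      · rw [Prod.fst_mul, h₁, h₁', ← Subgroup.coe_mul]
        congr 1
        simp only [Pi.add_apply, zpow_add, Finset.prod_mul_distrib]
        exact mul_mul_mul_comm _ _ _ _
      · simp only [Pi.add_apply, Int.cast_add, mul_add, h₂, h₂', Prod.snd_mul]
        rw [← Finset.sum_add_distrib]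
        exact Finset.sum_congr rfl fun l _ => (add_mul _ _ _).symm
    | inv a _ ha =>
      obtain ⟨m, β, h₁, h₂⟩ := ha
      refine ⟨-m, -β, ?_, fun j => ?_⟩
      · rw [Prod.fst_inv, h₁, ← Subgroup.coe_inv]
        congr 1
        simp only [Pi.neg_apply, zpow_neg, Finset.prod_inv_distrib]
        rw [mul_inv]
      · simp only [Pi.neg_apply, Int.cast_neg, mul_neg, h₂, Prod.snd_inv]
        rw [← Finset.sum_neg_distrib]
        exact Finset.sum_congr rfl fun l _ => (neg_mul _ _).symm
  obtain ⟨m, β, hm, hβ⟩ := key _ hyT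
  have hdvd : ∀ j, (Nat.card Γ : ℤ) ∣ β j := by
    intro j
    have h := hβ j
    simp only [toAdd_one, Pi.zero_apply, zero_mul, Finset.sum_const_zero, ← Int.cast_mul,
      ZMod.intCast_zmod_eq_zero_iff_dvd] at h
    simp only [M, Nat.cast_mul] at h
    exact (mul_dvd_mul_iff_left (by exact_mod_cast hD.ne')).mp h
  refine ⟨m, ?_⟩
  change (w₀ : Γ) ^ m = y
  rw [← Subgroup.coe_zpow, show y = ((y, (1 : A)) : Γ × A).1 from rfl, hm]
  congr 1
  rw [Finset.prod_eq_one fun j _ => ?_, mul_one]
  obtain ⟨c, hc⟩ := hdvd j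
  refine Subtype.ext ?_
  rw [hc, zpow_mul, zpow_natCast, Subgroup.coe_zpow, Subgroup.coe_pow, pow_card_eq_one',
    one_zpow, Subgroup.coe_one]

end CfsgLib.MTwelveCover
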