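import Cfsg.Agent.MTwelveCover.CoverData
import Cfsg.Agent.Mathieu.SmallOrders
import Cfsg.Prelude.Def_KGroupFacts
import Mathlib.Data.Nat.Bitwise
import Mathlib.GroupTheory.SpecificGroups.Cyclic
import Mathlib.Data.Fintype.Prod
import Mathlib.Algebra.Group.Subgroup.Finite

/-!
# The double cover of the dodecad stabiliser

Signed permutations of the twelve coordinates of the extended ternary code which lie over an element
of the dodecad stabiliser and preserve the code form a stem extension with kernel of order two.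
-/

set_option autoImplicit false

namespace CfsgLib.MTwelveCover

open Cfsg CfsgLib.Mathieu CoverData
open scoped commutatorElement

/-- The point of a coordinate. -/
def pos (i : Fin 12) : GolayPt := pt (posList.getD i 0)

/-- A basis vector of the code. -/
def row (k : Fin 6) (i : Fin 12) : ZMod 3 := (((rowList.getD k []).getD i 0 : ℕ) : ZMod 3)

/-- A basis vector as an odd function on signed coordinates. -/
def srow (k : Fin 6) (x : Fin 12 × Bool) : ZMod 3 := cond x.2 (-row k x.1) (row k x.1)

/-- A word of the code on signed coordinates. -/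
def word (a : Fin 6 → ZMod 3) (x : Fin 12 × Bool) : ZMod 3 := ∑ k, a k * srow k x

/-- A signed permutation over `g` preserving the code. -/
def Good (g : Equiv.Perm GolayPt) (π : Equiv.Perm (Fin 12 × Bool)) : Prop :=
  (∀ x, pos (π x).1 = g (pos x.1)) ∧
    (∀ i b, π (i, !b) = ((π (i, b)).1, !(π (i, b)).2)) ∧
      ∀ a, ∃ c, ∀ x, word a (π x) = word c x

theorem good_one : Good 1 1 := ⟨fun _ => rfl, fun _ _ => rfl, fun a => ⟨a, fun _ => rfl⟩⟩

theorem good_mul {g h : Equiv.Perm GolayPt} {π ρ : Equiv.Perm (Fin 12 × Bool)} (hg : Good g π)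
    (hh : Good h ρ) : Good (g * h) (π * ρ) := by
  obtain ⟨hg1, hg2, hg3⟩ := hg
  obtain ⟨hh1, hh2, hh3⟩ := hh
  refine ⟨fun x => ?_, fun i b => ?_, fun a => ?_⟩
  · simp only [Equiv.Perm.mul_apply, hg1, hh1]
  · simp only [Equiv.Perm.mul_apply, hh2, hg2]
  · obtain ⟨c, hc⟩ := hg3 a
    obtain ⟨d, hd⟩ := hh3 c
    exact ⟨d, fun x => by rw [Equiv.Perm.mul_apply, hc, hd]⟩

/-- The double cover. -/
def cover : Subgroup (↥Spor.M12 × Equiv.Perm (Fin 12 × Bool)) where
  carrier := {x | Good (x.1 : Equiv.Perm GolayPt) x.2}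
  one_mem' := good_one
  mul_mem' ha hb := good_mul ha hb
  inv_mem' := by
    intro x hx
    have hpow : ∀ n : ℕ, Good ((x ^ n).1 : Equiv.Perm GolayPt) (x ^ n).2 := by
      intro n
      induction n with
      | zero => exact good_one
      | succ n ih => rw [pow_succ]; exact good_mul ih hx
    obtain ⟨n, hn⟩ : ∃ n : ℕ, x ^ n = x⁻¹ := by
      have : x⁻¹ ∈ Subgroup.zpowers x := inv_mem (Subgroup.mem_zpowers x)
      rw [← mem_powers_iff_mem_zpowers, Submonoid.mem_powers_iff] at this
      exact this
    exact hn ▸ hpow n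

/-- The projection. -/
def proj : ↥cover →* ↥Spor.M12 := (MonoidHom.fst _ _).comp cover.subtype

/-- The map of a lift. -/
def liftFun (t s : ℕ) (x : Fin 12 × Bool) : Fin 12 × Bool :=
  (Fin.ofNat 12 (posList.idxOf (app t (posList.getD x.1 0))), x.2.xor (s.testBit x.1))

/-- All checks on a lift. -/
def liftOK (t s : ℕ) : Bool :=
  inM12 t && decide (∀ x y, liftFun t s x = liftFun t s y → x = y) &&
    decide (∀ x, posList.getD (liftFun t s x).1 0 = app t (posList.getD x.1 0)) &&
    decide (∀ (k : Fin 6) x, srow k (liftFun t s x) =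
      ∑ l : Fin 6, srow k (liftFun t s (⟨l.1, by omega⟩, false)) * srow l x)

theorem posList_lt : ∀ i : Fin 12, posList.getD i 0 < 24 := by decide +kernel

theorem exists_lift {t s : ℕ} (h : liftOK t s = true) :
    ∃ y : ↥cover, Rep enc (y.1.1 : Equiv.Perm GolayPt) t ∧ ∀ x, y.1.2 x = liftFun t s x := by
  simp only [liftOK, Bool.and_eq_true, decide_eq_true_eq] at h
  obtain ⟨⟨⟨hin, hinj⟩, hpos⟩, hcode⟩ := h
  obtain ⟨σ, hσ, r⟩ := inGroup_of_inM12 hin
  let π : Equiv.Perm (Fin 12 × Bool) :=
    Equiv.ofBijective (liftFun t s) (Finite.injective_iff_bijective.mp fun x y => hinj x y)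
  refine ⟨⟨(⟨σ, hσ⟩, π), ?_, ?_, ?_⟩, r, fun _ => rfl⟩
  · intro x
    have hidx : idx (σ (pos x.1)) = app t (posList.getD x.1 0) := by
      have := r (pos x.1)
      change app t (idx (pos x.1)) = idx (σ (pos x.1)) at this
      rw [← this, pos, idx_pt (posList_lt x.1)]
    change pos (liftFun t s x).1 = σ (pos x.1)
    rw [pos, hpos x, ← hidx, pt_idx]
  · intro i b
    change liftFun t s (i, !b) = ((liftFun t s (i, b)).1, !(liftFun t s (i, b)).2)
    simp only [liftFun]
    cases b <;> cases s.testBit i <;> rfl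
  · intro a
    refine ⟨fun l => ∑ k, a k * srow k (liftFun t s (⟨l.1, by omega⟩, false)), fun x => ?_⟩
    change word a (liftFun t s x) = _
    simp only [word, Finset.sum_mul]
    rw [Finset.sum_comm]
    refine Finset.sum_congr rfl fun k _ => ?_
    rw [hcode k x, Finset.mul_sum]
    simp only [mul_assoc]

theorem proj_surjective : Function.Surjective proj := by
  let H : Subgroup (Equiv.Perm GolayPt) := proj.range.map Spor.M12.subtype
  have hlift : (m12Strong.zip genSigns).all (fun p => liftOK p.1 p.2) = true := by decide +kernel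
  have hlen : m12Strong.length ≤ genSigns.length := by decide +kernel
  have hg : ∀ t ∈ m12Strong, InGroup enc H t := by
    intro t ht
    obtain ⟨i, hi, rfl⟩ := List.getElem_of_mem ht
    have hi' : i < genSigns.length := hi.trans_le hlen
    have hmem : (m12Strong[i], genSigns[i]) ∈ m12Strong.zip genSigns := by
      refine List.mem_iff_getElem.mpr ⟨i, by rw [List.length_zip]; omega, ?_⟩
      exact List.getElem_zip
    obtain ⟨y, hy, -⟩ := exists_lift (List.all_eq_true.1 hlift _ hmem)
    exact ⟨_, Subgroup.mem_map_of_mem _ ⟨y, rfl⟩, hy⟩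
  have ok : reachChainOK m12Strong m12Levels [] m12Trees = true := by decide +kernel
  have hle : H ≤ Spor.M12 := Subgroup.map_subtype_le _
  have hEq := ((IsChain'.change _ _ m12_chain (isReachChain_of_ok hg _ _ _ ok)).eq_and_card hle).1
  intro g
  have : (g : Equiv.Perm GolayPt) ∈ H := hEq.symm ▸ g.2
  obtain ⟨g', ⟨y, rfl⟩, hg'⟩ := this
  exact ⟨y, Subtype.ext hg'⟩

theorem pos_injective : Function.Injective pos := by decide +kernel

theorem ker_signs {y : ↥cover} (hy : y ∈ proj.ker) :
    (∀ x, y.1.2 x = x) ∨ ∀ x, y.1.2 x = (x.1, !x.2) := by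
  obtain ⟨h1, h2, h3⟩ := y.2
  have hg : (y.1.1 : Equiv.Perm GolayPt) = 1 := by
    have : y.1.1 = 1 := hy
    rw [this]; rfl
  generalize y.1.2 = π at h1 h2 h3 ⊢
  have hfst : ∀ x, (π x).1 = x.1 := fun x => pos_injective (by rw [h1, hg]; rfl)
  let e : Fin 12 → Bool := fun i => (π (i, false)).2
  have hπ : ∀ i, π (i, false) = (i, e i) := fun i => Prod.ext (hfst _) rfl
  have hπ' : ∀ i, π (i, true) = (i, !e i) := fun i => by
    have := h2 i false
    simp only [Bool.not_false, hπ] at this
    exact this
  have hsupp : ∀ (k : Fin 6) (i : Fin 12), row k i ≠ 0 → e i = e ⟨k.1, by omega⟩ := by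
    intro k i hki
    obtain ⟨c, hc⟩ := h3 (Pi.single k 1)
    have hw : ∀ x, word (Pi.single k 1) x = srow k x := fun x => by
      simp [word, Pi.single_apply]
    have hcl : ∀ l : Fin 6, c l = srow k (⟨l.1, by omega⟩, e ⟨l.1, by omega⟩) := by
      intro l
      have := hc (⟨l.1, by omega⟩, false)
      rw [hw, hπ] at this
      rw [this, word, Finset.sum_eq_single l]
      · rw [(by decide +kernel : ∀ l : Fin 6, srow l (⟨l.1, by omega⟩, false) = 1) l, mul_one]
      · intro j _ hj
        rw [(by decide +kernel : ∀ l j : Fin 6, j ≠ l → srow j (⟨l.1, by omega⟩, false) = 0) l j hj,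
          mul_zero]
      · intro h; exact absurd (Finset.mem_univ _) h
    have := hc (i, false)
    rw [hw, hπ, word, Finset.sum_eq_single k ?_ (fun h => absurd (Finset.mem_univ _) h), hcl] at this
    · exact (by decide +kernel : ∀ (k : Fin 6) (i : Fin 12) (x y : Bool),
        srow k (i, x) = srow k (⟨k.1, by omega⟩, y) * srow k (i, false) → row k i ≠ 0 → x = y)
        k i _ _ this hki
    · intro j _ hj
      rw [hcl, (by decide +kernel : ∀ (k j : Fin 6) (y : Bool), j ≠ k →
        srow k (⟨j.1, by omega⟩, y) = 0) k j _ hj, zero_mul]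
  have hconn : ∀ i : Fin 12, ∃ (k : Fin 6) (j : Fin 12), row k i ≠ 0 ∧ row k j ≠ 0 ∧ row 0 j ≠ 0 := by
    decide +kernel
  have he : ∀ i, e i = e 0 := fun i => by
    obtain ⟨k, j, hi, hj, h0⟩ := hconn i
    rw [hsupp k i hi, ← hsupp k j hj, hsupp 0 j h0]
    rfl
  cases h0 : e 0
  · left
    rintro ⟨i, b⟩
    cases b <;> simp [hπ, hπ', he i, h0]
  · right
    rintro ⟨i, b⟩
    cases b <;> simp [hπ, hπ', he i, h0]

/-- The sign change of every coordinate. -/
def flipAll : Equiv.Perm (Fin 12 × Bool) where
  toFun x := (x.1, !x.2)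
  invFun x := (x.1, !x.2)
  left_inv x := by simp
  right_inv x := by simp

theorem flipAll_good : Good 1 flipAll := by
  refine ⟨fun _ => rfl, fun i b => by cases b <;> rfl, fun a => ⟨fun k => -a k, fun x => ?_⟩⟩
  simp only [word, neg_mul, ← mul_neg]
  refine Finset.sum_congr rfl fun k _ => ?_
  obtain ⟨i, b⟩ := x
  cases b <;> simp [srow, flipAll]

/-- The central element. -/
def central : ↥cover := ⟨(1, flipAll), flipAll_good⟩

theorem central_ne_one : central ≠ 1 := fun h => by
  have := congrArg (fun y : ↥cover => y.1.2 (0, false)) h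
  simp [central, flipAll] at this

theorem mem_ker_iff {y : ↥cover} : y ∈ proj.ker ↔ y = 1 ∨ y = central := by
  refine ⟨fun hy => ?_, ?_⟩
  · have hg : y.1.1 = 1 := hy
    rcases ker_signs hy with h | h
    · exact Or.inl (Subtype.ext (Prod.ext hg (Equiv.ext h)))
    · exact Or.inr (Subtype.ext (Prod.ext hg (Equiv.ext h)))
  · rintro (rfl | rfl) <;> rfl

theorem central_comm (y : ↥cover) : y * central = central * y := by
  refine Subtype.ext (Prod.ext (by simp [central]) (Equiv.ext fun x => ?_))
  obtain ⟨i, b⟩ := x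
  exact y.2.2.1 i b

theorem card_ker : Nat.card proj.ker = 2 := by
  rw [Nat.card_eq_two_iff]
  refine ⟨1, ⟨central, mem_ker_iff.2 (Or.inr rfl)⟩, fun h => central_ne_one
    (congrArg Subtype.val h).symm, ?_⟩
  ext y
  simp only [Set.mem_insert_iff, Set.mem_singleton_iff, Set.mem_univ, iff_true]
  rcases mem_ker_iff.1 y.2 with h | h
  · exact Or.inl (Subtype.ext h)
  · exact Or.inr (Subtype.ext h)

theorem central_mem_commutator : central ∈ commutator ↥cover := by
  have h1 : liftOK (pairTables.getD 0 0) (pairSigns.getD 0 0) = true := by decide +kernel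
  have h2 : liftOK (pairTables.getD 1 0) (pairSigns.getD 1 0) = true := by decide +kernel
  obtain ⟨a, ra, ha⟩ := exists_lift h1
  obtain ⟨b, rb, hb⟩ := exists_lift h2
  have hker : ⁅a, b⁆ ∈ proj.ker := by
    rw [MonoidHom.mem_ker, map_commutatorElement, commutatorElement_eq_one_iff_commute]
    refine Subtype.ext (Equiv.ext fun p => idx_injective ?_)
    have hc : allBelow 24 (fun i => app (pairTables.getD 0 0) (app (pairTables.getD 1 0) i) ==
        app (pairTables.getD 1 0) (app (pairTables.getD 0 0) i)) = true := by decide +kernel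
    have := allBelow_iff.1 hc _ (idx_lt p)
    simp only [beq_iff_eq] at this
    have e1 : ∀ q, app (pairTables.getD 0 0) (idx q) = idx ((a.1.1 : Equiv.Perm GolayPt) q) := ra
    have e2 : ∀ q, app (pairTables.getD 1 0) (idx q) = idx ((b.1.1 : Equiv.Perm GolayPt) q) := rb
    rw [e1, e2, e1, e2] at this
    exact this
  have hne : ⁅a, b⁆ ≠ 1 := by
    intro h
    rw [commutatorElement_eq_one_iff_commute] at h
    obtain ⟨x, hx⟩ : ∃ x, liftFun (pairTables.getD 0 0) (pairSigns.getD 0 0)
        (liftFun (pairTables.getD 1 0) (pairSigns.getD 1 0) x) ≠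
        liftFun (pairTables.getD 1 0) (pairSigns.getD 1 0)
        (liftFun (pairTables.getD 0 0) (pairSigns.getD 0 0) x) := by decide +kernel
    apply hx
    have := congrArg (fun y : ↥cover => y.1.2 x) h.eq
    simp only [Subgroup.coe_mul, Prod.snd_mul, Equiv.Perm.mul_apply, ha, hb] at this
    exact this
  rcases mem_ker_iff.1 hker with h | h
  · exact absurd h hne
  · rw [← h]
    exact Subgroup.commutator_mem_commutator (Subgroup.mem_top a) (Subgroup.mem_top b)

theorem isStemExtension_proj : Cfsg.IsStemExtension proj := by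
  refine ⟨proj_surjective, fun y hy => Subgroup.mem_center_iff.2 fun g => ?_, fun y hy => ?_⟩
  · rcases mem_ker_iff.1 hy with rfl | rfl
    · simp
    · exact central_comm g
  · rcases mem_ker_iff.1 hy with rfl | rfl
    · exact one_mem _
    · exact central_mem_commutator

end CfsgLib.MTwelveCover
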