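import Cfsg.Agent.Mathieu.SmallData

/-!
Data: the extended ternary code of length 12 on the dodecad of squares and monomial lifts of
generators of its stabiliser, together with two commuting elements whose lifts do not commute.
-/

set_option autoImplicit false

namespace CfsgLib.MTwelveCover.CoverData

/-- Positions of the twelve coordinates among the 24 points. -/
def posList : List ℕ := [0, 1, 2, 3, 4, 8, 13, 9, 18, 6, 16, 12]

/-- A basis of the code, in systematic form. -/
def rowList : List (List ℕ) := [[1, 0, 0, 0, 0, 0, 0, 1, 1, 1, 1, 1], [0, 1, 0, 0, 0, 0, 1, 0, 1, 2, 2, 1], [0, 0, 1, 0, 0, 0, 1, 1, 0, 1, 2, 2], [0, 0, 0, 1, 0, 0, 1, 2, 1, 0, 1, 2], [0, 0, 0, 0, 1, 0, 1, 2, 2, 1, 0, 1], [0, 0, 0, 0, 0, 1, 1, 1, 2, 2, 1, 0]]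

/-- Signs of the lifts of the strong generators, as masks of coordinates. -/
def genSigns : List ℕ := [393, 60, 996, 1405, 2026, 1061, 1235]

/-- Two commuting elements. -/
def pairTables : List ℕ := [345106353314521146917275569659147744505144079569471670536, 467225953222983122698146240921655261696977380983170007041]

/-- Signs of lifts of these two elements. -/
def pairSigns : List ℕ := [1811, 574]

end CfsgLib.MTwelveCover.CoverData
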