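import Cfsg.Agent.MTwelveCover.Bound

/-!
Data: a Sylow 3-subgroup of the dodecad stabiliser with fusion, and the spanning certificate
bounding the 3-part of its Schur multiplier.
-/

set_option autoImplicit false
set_option maxRecDepth 4000

namespace CfsgLib.MTwelveCover.SylowThree

open CfsgLib.Schur.Pc

/-- The presentation, fusions and equations. -/
def cert : Cert where
  p := 3
  n := 3
  rules := [([0, 0, 0], []), ([1, 1, 1], []), ([2, 2, 2], []), ([1, 0], [0, 1, 2]), ([2, 0], [0, 2]), ([2, 1], [1, 2])]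
  fus := [([[1], [2]], [[1, 2], [1, 1, 2]]), ([[0, 1, 2, 2], [2]], [[2], [0, 1]])]
  fusW := 2
  assoc := [([0, 0, 0, 0], (0, 0), (1, 0)), ([1, 1, 1, 0], (0, 1), (2, 3)), ([1, 0, 0, 0], (0, 3), (1, 0)), ([2, 1, 0], (0, 5), (1, 3)), ([2, 2, 2, 0], (0, 2), (2, 4)), ([2, 0, 0, 0], (0, 4), (1, 0)), ([1, 1, 1, 1], (0, 1), (1, 1)), ([2, 2, 2, 1], (0, 2), (2, 5)), ([2, 1, 1, 1], (0, 5), (1, 1)), ([2, 2, 2, 2], (0, 2), (1, 2))]
  fusEq := [(0, [0, 0, 0], []), (0, [1, 1, 1], []), (0, [1, 0], [0, 1]), (1, [0, 0, 0], []), (1, [1, 1, 1], []), (1, [1, 0], [0, 1])]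
  eqs := [([0], [0]), ([1], [3, 3, 3, 5, 5, 5, 1, 2]), ([3, 4, 3, 4, 4, 3, 0, 2], [0]), ([5, 4, 3], [3, 4, 5]), ([2], [4, 4, 4, 2]), ([4, 4, 4, 0], [0]), ([1], [1]), ([2], [5, 5, 5, 2]), ([5, 5, 5, 1], [1]), ([2], [2]), ([5, 5, 5, 1, 2, 6, 6, 6], [1]), ([5, 1, 5, 5, 5, 5, 5, 1, 2, 7, 7, 7], [2]), ([5, 1, 7, 6], [5, 5, 1, 6, 7, 5]), ([2, 8, 8, 8], [4, 4, 3, 2, 4, 4, 3, 3, 0, 5, 2, 5, 1, 2]), ([3, 5, 4, 3, 3, 0, 5, 2, 1, 9, 9, 9], [2]), ([9, 8, 2], [4, 5, 8, 9, 4, 5, 2])]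
  e := 0
  adj := []
  combo := []
  fuel := 16

/-- The spanning certificate. -/
def span : Span where
  tgt := [0, 0, 0, 0, 0, 0, 0, 0, 0, 0]
  sec := [[1, 0, 0, 0, 0, 0, 0, 0, 0, 0], [0, 1, 0, 0, 0, 0, 0, 0, 0, 0], [0, 0, 0, -1, 0, 0, 0, 0, 0, 0]]
  alpha := [0, 0, 0, 0, 0, 0]
  beta := [[1, 0, 0], [0, 1, 0], [0, 0, 3], [0, 0, -1], [0, 0, 0], [0, 0, 0]]
  combo := [[], [], [(1, 2), (2, 3), (4, 3), (12, (-3))], [], [(1, (-4)), (2, (-4)), (4, (-5)), (12, 5), (15, 1)], [(1, (-1)), (2, (-1)), (4, (-1)), (12, 1)]]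
  sq := []
  D := 9
  Q := [[3, 0, 0], [0, 3, 0], [0, 0, 9]]

/-- Tables of the generators. -/
def gens : List ℕ := [172989046867253716172258216782184218697045636412594192396, 124044244159161245822679672105934800030467267557356208641, 123277613526680234932066315352145928452240213734876516361]

/-- Tables of the conjugating elements. -/
def conjs : List ℕ := [515980345646404874891402883599711937791107590306318913536, 565879241389417934013101925920667358835291772093125035536]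

/-- Base positions. -/
def base : List ℕ := [0, 1]

end CfsgLib.MTwelveCover.SylowThree
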