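import Cfsg.Agent.MTwelveCover.Bound

/-!
Data: a Sylow 2-subgroup of the dodecad stabiliser with fusion, and the spanning certificate
bounding the 2-part of its Schur multiplier.
-/

set_option autoImplicit false
set_option maxRecDepth 4000

namespace CfsgLib.MTwelveCover.SylowTwo

open CfsgLib.Schur.Pc

/-- The presentation, fusions and equations. -/
def cert : Cert where
  p := 2
  n := 6
  rules := [([0, 0], []), ([1, 1], []), ([2, 2], []), ([3, 3], []), ([4, 4], []), ([5, 5], []), ([1, 0], [0, 1, 2, 3, 5]), ([2, 0], [0, 2]), ([3, 0], [0, 3, 5]), ([4, 0], [0, 4, 5]), ([5, 0], [0, 5]), ([2, 1], [1, 2, 4]), ([3, 1], [1, 3, 4, 5]), ([4, 1], [1, 4]), ([5, 1], [1, 5]), ([3, 2], [2, 3, 5]), ([4, 2], [2, 4]), ([5, 2], [2, 5]), ([4, 3], [3, 4]), ([5, 3], [3, 5]), ([5, 4], [4, 5])]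
  fus := [([[0], [3, 4, 5], [3], [5]], [[2, 4], [5], [1, 2, 3, 4, 5], [4, 5]])]
  fusW := 4
  assoc := [([0, 0, 0], (0, 0), (1, 0)), ([1, 1, 0], (0, 1), (1, 6)), ([1, 0, 0], (0, 6), (1, 0)), ([2, 1, 0], (0, 11), (1, 6)), ([3, 1, 0], (0, 12), (1, 6)), ([4, 1, 0], (0, 13), (1, 6)), ([5, 1, 0], (0, 14), (1, 6)), ([2, 2, 0], (0, 2), (1, 7)), ([2, 0, 0], (0, 7), (1, 0)), ([3, 2, 0], (0, 15), (1, 7)), ([4, 2, 0], (0, 16), (1, 7)), ([5, 2, 0], (0, 17), (1, 7)), ([3, 3, 0], (0, 3), (1, 8)), ([3, 0, 0], (0, 8), (1, 0)), ([4, 3, 0], (0, 18), (1, 8)), ([5, 3, 0], (0, 19), (1, 8)), ([4, 4, 0], (0, 4), (1, 9)), ([4, 0, 0], (0, 9), (1, 0)), ([5, 4, 0], (0, 20), (1, 9)), ([5, 5, 0], (0, 5), (1, 10)), ([5, 0, 0], (0, 10), (1, 0)), ([1, 1, 1], (0, 1), (1, 1)), ([2, 2, 1], (0, 2), (1, 11)), ([2, 1, 1], (0, 11), (1, 1)), ([3, 2, 1], (0,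 15), (1, 11)), ([4, 2, 1], (0, 16), (1, 11)), ([5, 2, 1], (0, 17), (1, 11)), ([3, 3, 1], (0, 3), (1, 12)), ([3, 1, 1], (0, 12), (1, 1)), ([4, 3, 1], (0, 18), (1, 12)), ([5, 3, 1], (0, 19), (1, 12)), ([4, 4, 1], (0, 4), (1, 13)), ([4, 1, 1], (0, 13), (1, 1)), ([5, 4, 1], (0, 20), (1, 13)), ([5, 5, 1], (0, 5), (1, 14)), ([5, 1, 1], (0, 14), (1, 1)), ([2, 2, 2], (0, 2), (1, 2)), ([3, 3, 2], (0, 3), (1, 15)), ([3, 2, 2], (0, 15), (1, 2)), ([4, 3, 2], (0, 18), (1, 15)), ([5, 3, 2], (0, 19), (1, 15)), ([4, 4, 2], (0, 4), (1, 16)), ([4, 2, 2], (0, 16), (1, 2)), ([5, 4, 2], (0, 20), (1, 16)), ([5, 5, 2], (0, 5), (1, 17)), ([5, 2, 2], (0, 17), (1, 2)), ([3, 3, 3], (0, 3), (1, 3)), ([4, 4, 3], (0, 4), (1, 18)), ([4, 3, 3], (0, 18), (1, 3)), ([5, 4, 3], (0, 20), (1, 18)), ([5, 5, 3], (0, 5), (1, 19)), ([5, 3, 3], (0, 19), (1, 3)),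 ([4, 4, 4], (0, 4), (1, 4)), ([5, 5, 4], (0, 5), (1, 20)), ([5, 4, 4], (0, 20), (1, 4)), ([5, 5, 5], (0, 5), (1, 5))]
  fusEq := [(0, [0, 0], []), (0, [1, 1], []), (0, [2, 2], []), (0, [3, 3], []), (0, [1, 0], [0, 1]), (0, [2, 0], [0, 2, 3]), (0, [3, 0], [0, 3]), (0, [2, 1], [1, 2]), (0, [3, 1], [1, 3]), (0, [3, 2], [2, 3])]
  eqs := [([0], [0]), ([1], [6, 6, 14, 12, 11, 1, 18, 4, 5, 15, 2, 19, 3, 5]), ([6, 10, 8, 7, 6, 0, 17, 15, 2, 5, 3, 5], [0]), ([11, 9, 7, 6, 17, 15, 2, 5], [6, 7, 11, 16, 2, 18]), ([12, 10, 9, 8, 6, 19, 3, 5, 5], [6, 8, 14, 12, 5, 16, 15, 20, 19, 18, 3, 5]), ([13, 9, 6, 20, 5], [6, 9, 14, 13, 17, 16, 19, 18, 5]), ([14, 10, 6, 5], [6, 10, 14, 17, 19, 5]), ([2], [7, 7, 2]), ([7, 7, 0], [0]), ([15, 10, 8, 7, 5], [7, 8, 17, 15, 5]), ([16, 9, 7], [7, 9, 17, 16]), ([17, 10, 7], [7, 10, 17]), ([3], [8,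 8, 19, 3, 5]), ([8, 10, 8, 0, 5], [0]), ([18, 9, 8, 20, 5], [8, 9, 19, 18, 5]), ([19, 10, 8, 5], [8, 10, 19, 5]), ([4], [9, 9, 20, 4, 5]), ([9, 10, 9, 0, 5], [0]), ([20, 10, 9, 5], [9, 10, 20, 5]), ([5], [10, 10, 5]), ([10, 10, 0], [0]), ([1], [1]), ([2], [11, 11, 16, 2, 4]), ([11, 13, 11, 1, 4], [1]), ([15, 14, 12, 11, 18, 4, 5], [11, 12, 17, 16, 15, 20, 5, 4]), ([16, 13, 11, 4], [11, 13, 16, 4]), ([17, 14, 11], [11, 14, 17, 20]), ([3], [12, 12, 19, 18, 3, 20, 4, 5]), ([12, 14, 13, 12, 1, 20, 4, 5], [1]), ([18, 13, 12, 20, 4], [12, 13, 18, 4]), ([19, 14, 12, 5], [12, 14, 19, 20, 5]), ([4], [13, 13, 4]), ([13, 13, 1], [1]), ([20, 14, 13], [13, 14, 20]), ([5], [14, 14, 5]), ([14, 14, 1], [1]), ([2], [2]), ([3], [15, 15, 19, 3, 5]), ([15, 17, 15, 2, 5], [2]), ([18, 16, 15, 20], [15, 16, 18]), ([19, 17, 15, 5], [15, 17,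 19, 5]), ([4], [16, 16, 4]), ([16, 16, 2], [2]), ([20, 17, 16], [16, 17, 20]), ([5], [17, 17, 5]), ([17, 17, 2], [2]), ([3], [3]), ([4], [18, 18, 4]), ([18, 18, 3], [3]), ([20, 19, 18], [18, 19, 20]), ([5], [19, 19, 5]), ([19, 19, 3], [3]), ([4], [4]), ([5], [20, 20, 5]), ([20, 20, 4], [4]), ([5], [5]), ([16, 2, 4, 21, 21], [0]), ([5, 22, 22], [19, 18, 3, 20, 4, 5]), ([14, 13, 12, 11, 1, 18, 4, 20, 5, 16, 15, 2, 20, 19, 18, 3, 20, 4, 5, 23, 23], [3]), ([20, 4, 5, 24, 24], [5]), ([17, 20, 22, 21], [21, 22, 10, 9, 8, 20, 5]), ([17, 16, 15, 2, 20, 5, 4, 23, 21], [13, 11, 4, 2, 20, 4, 5, 21, 23, 24, 8]), ([17, 16, 20, 4, 24, 21], [4, 21, 24, 10]), ([5, 23, 22, 19, 18, 3], [14, 17, 19, 20, 5, 22, 23, 3]), ([5, 24, 22, 5], [20, 5, 22, 24, 19, 20, 5]), ([14, 13, 17, 16, 19, 18, 20, 4, 5, 24, 23], [20, 4, 5, 23, 24, 19])]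
  e := 0
  adj := []
  combo := []
  fuel := 21

/-- The spanning certificate. -/
def span : Span where
  tgt := [0, 0, 0, 0, 0, 0, 0, 1, 0, 0, 0, 0, 0, 0, 0, 0, 0, 0, 0, 0, 0, 0, 0, 0, 0]
  sec := [[1, 0, 0, 0, 0, 0, 0, 0, 0, 0, 0, 0, 0, 0, 0, 0, 0, 0, 0, 0, 0, 0, 0, 0, 0], [0, 1, 0, 0, 0, 0, 0, 0, 0, 0, 0, 0, 0, 0, 0, 0, 0, 0, 0, 0, 0, 0, 0, 0, 0], [0, 0, 1, 0, 0, 0, 1, 0, 0, 0, 0, 0, 0, 0, 0, 0, 0, 0, 0, 0, 0, 0, 0, 0, 0], [0, 0, 0, 1, 0, 0, 0, 0, 0, 0, 0, 0, 0, 0, 0, 0, 0, 0, 0, 0, 0, 0, 0, 0, 0], [0, 0, 0, 0, 1, 0, 0, 0, 0, 0, 0, 1, 0, 0, 0, 0, 0, 0, 0, 0, 0, 0, 0, 0, 0], [0, 0, 0, 0, 0, 1, 0, 0, 1, 0, 0, 0, 0, 0, 0, 0, 0, 0, 0, 0, 0, 0, 0, 0, 0]]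
  alpha := [0, 0, 1, 0, 0, 0, 1, 1, 0, 0, 0, 0, 1, 0, 0, 0, 0, 0, 0, 0, 0]
  beta := [[1, 0, 0, 0, 0, 0], [0, 1, 0, 0, 0, 0], [0, 0, 2, 1, 0, 2], [0, 0, 0, 1, 0, 0], [0, 0, 0, 0, 2, 0], [0, 0, 0, 0, 0, 2], [0, 0, -1, -1, 0, -2], [0, 0, 0, 0, 0, 0], [0, 0, 0, 0, 0, -1], [0, 0, 0, 0, 0, -1], [0, 0, 0, 0, 0, 0], [0, 0, 0, 0, -1, 0], [0, 0, 0, 0, -1, -1], [0, 0, 0, 0, 0, 0], [0, 0, 0, 0, 0, 0], [0, 0, 0, 0, 0, -1], [0, 0, 0, 0, 0, 0], [0, 0, 0, 0, 0, 0], [0, 0, 0, 0, 0, 0], [0, 0, 0, 0, 0, 0], [0, 0, 0, 0, 0, 0]]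
  combo := [[], [], [(2, (-1)), (4, (-1)), (5, 1), (9, 1), (10, (-4)), (12, 1), (14, (-2)), (60, (-1))], [], [(4, 2), (5, (-2)), (6, 3), (9, 2), (10, 3), (12, (-3)), (14, 2), (16, (-1)), (22, 2), (23, 2), (59, 1), (60, 4), (61, 2)], [(6, (-3)), (9, (-2)), (10, 3), (12, 2), (14, 1), (16, 1), (60, (-2))], [(2, 1), (4, 1), (5, (-1)), (6, (-2)), (7, 1), (9, (-3)), (10, 6), (14, 3), (16, 1), (60, (-1))], [], [(6, 3), (9, 2), (10, (-3)), (12, (-2)), (14, (-1)), (16, (-1)), (60, 2)], [(6, 2), (9, 1), (10, (-2)), (12, (-1)), (14, (-1)), (16, (-1)), (60, 1)], [(9, 1), (10, (-1))], [(4, (-2)), (5, 2), (6, (-3)), (9, (-2)), (10, (-3)), (12, 3), (14, (-2)), (16, 1), (22, (-2)), (23, (-2)), (59, (-1)), (60, (-4)), (61, (-2))], [(1, (-1)), (2, (-1)), (4, 2), (5, (-1)), (6, 9), (9, 7), (10, (-6)), (12, (-6)), (14, (-1)), (16, (-3)),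 (22, 1), (23, 2), (59, 1), (60, 8), (61, 2)], [(4, 2), (5, (-2)), (6, 5), (9, 4), (10, 1), (12, (-4)), (14, 1), (16, (-2)), (22, 2), (23, 3), (59, 1), (60, 6), (61, 2)], [(3, 1), (4, 1), (5, (-2)), (6, (-2)), (9, (-1)), (10, 6), (14, 4), (16, 1)], [(4, (-1)), (5, 1), (6, 3), (9, 2), (10, (-5)), (12, (-1)), (14, (-3)), (16, (-1)), (60, 1)], [(4, 2), (5, (-2)), (6, 5), (9, 4), (10, 1), (12, (-4)), (14, 1), (16, (-2)), (22, 1), (23, 2), (59, 1), (60, 6), (61, 2)], [(10, (-1))], [(3, (-1)), (4, (-3)), (5, 3), (6, (-3)), (9, (-3)), (10, (-6)), (12, 4), (14, (-4)), (16, 1), (22, (-1)), (23, (-2)), (59, (-1)), (60, (-6)), (61, (-2))], [(6, (-1)), (10, 1)], [(6, (-1)), (10, 1), (14, 1)]]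
  sq := [(6, 2), (7, (-1)), (9, 2), (10, (-2)), (12, (-1)), (14, (-1)), (16, (-1)), (60, 2)]
  D := 8
  Q := [[4, 0, 0, 0, 0, 0], [0, 4, 0, 0, 0, 0], [0, 0, 8, 4, 0, 8], [0, 0, 0, 4, 0, 0], [0, 0, 0, 0, 8, 0], [0, 0, 0, 0, 0, 8]]

/-- Tables of the generators. -/
def gens : List ℕ := [467225953222983122698146240921655261696977380983170007041, 247026638698881863350449921350509063231361991996827897091, 345106353314521146917275569659147744505144079569471670536, 247218947451922808296039555920147066163297451323414544646, 247314354278584500855029035332572087116645164681884994816, 247218945996263704880943022693232274289352612530115185926]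

/-- Tables of the conjugating elements. -/
def conjs : List ℕ := [466551012761788668739909792139765950622999703129460376076]

/-- Base positions. -/
def base : List ℕ := [0, 1, 2]

end CfsgLib.MTwelveCover.SylowTwo
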