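import Cfsg.Agent.MTwelveCover.Bound
import Cfsg.Agent.Schur.PcPerm

/-!
# The bound from tables of permutations
-/

set_option autoImplicit false
set_option linter.style.haveILetI false

namespace CfsgLib.MTwelveCover

open Cfsg CfsgLib.Mathieu CfsgLib.Schur CfsgLib.Schur.Pc

/-- The checks on tables. -/
def spanTablesOK (C : Cert) (S : Span) (k : ℕ) (xs gs base : List ℕ) : Bool :=
  spanOK C S k && C.rules.all (fun l => wordEq xs l.1 l.2) &&
    decide (gs.length = C.fus.length) &&
    (C.fus.zip gs).all (fun F => (List.range C.fusW).all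
      fun s => wordConj xs F.2 (F.1.1.getD s []) (F.1.2.getD s [])) &&
    base.all (fun b => decide (b < 24)) &&
    decide ((normalWords C.p C.n 0).map (wordKey xs base)).Nodup

/-- The kernel, raised to a number prime to `p`, lies in a cyclic group killed by `k`. -/
theorem ker_pow_mem_zpowers_of_tables {H : Subgroup (Equiv.Perm GolayPt)} {Γ : Type*} [Group Γ]
    [Finite Γ] (C : Cert) (S : Span) (k : ℕ) (xs gs base : List ℕ)
    (hxs : ∀ t ∈ xs, InGroup enc H t) (hgs : ∀ t ∈ gs, InGroup enc H t)
    (hok : spanTablesOK C S k xs gs base = true) (hp : C.p.Prime) {N : ℕ}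
    (hN : Nat.card H = C.p ^ C.n * N) (σ : Γ →* H) (hσ : Cfsg.IsStemExtension σ) :
    ∃ W ∈ σ.ker, W ^ k = 1 ∧ ∀ z ∈ σ.ker, z ^ N ∈ Subgroup.zpowers W := by
  simp only [spanTablesOK, Bool.and_eq_true, List.all_eq_true, decide_eq_true_eq] at hok
  obtain ⟨⟨⟨⟨⟨hspan, hrules⟩, hlen⟩, hfus⟩, hbase⟩, hnodup⟩ := hok
  obtain ⟨x, hx⟩ := exists_word_elems hxs
  have heq : ∀ u v, wordEq xs u v = true → ev x u = ev x v := by
    intro u v h
    refine Subtype.ext (Equiv.ext fun p => enc.injective (Fin.ext ?_))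
    simp only [wordEq, allBelow_iff, beq_iff_eq] at h
    rw [hx, hx, h _ (enc p).isLt]
  have hr : ∀ l ∈ C.rules, ev x l.1 = ev x l.2 := fun l hl => heq _ _ (hrules l hl)
  have hf : ∀ F ∈ C.fus, ∃ g : H, ∀ s < C.fusW,
      g * ev x (F.1.getD s []) * g⁻¹ = ev x (F.2.getD s []) := by
    intro F hF
    obtain ⟨i, hi, rfl⟩ := List.getElem_of_mem hF
    have hi' : i < gs.length := hlen.symm ▸ hi
    obtain ⟨γ, hγ, rγ⟩ := hgs _ (List.getElem_mem hi')
    have hmem : (C.fus[i], gs[i]) ∈ C.fus.zip gs := by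
      refine List.mem_iff_getElem.mpr ⟨i, by rw [List.length_zip]; omega, ?_⟩
      rw [List.getElem_zip]
    refine ⟨⟨γ, hγ⟩, fun s hs => ?_⟩
    have h := hfus _ hmem s (List.mem_range.mpr hs)
    simp only [wordConj, allBelow_iff, beq_iff_eq] at h
    rw [mul_inv_eq_iff_eq_mul]
    refine Subtype.ext (Equiv.ext fun p => enc.injective (Fin.ext ?_))
    change (enc (γ ((ev x _ : H).1 p))).val = (enc ((ev x _ : H).1 (γ p))).val
    rw [← rγ, hx, hx, ← rγ, h _ (enc p).isLt]
  have hcard : C.p ^ C.n ≤ Nat.card (tailSubgroup x C.n 0) := by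
    let key : H → ℕ := fun g => base.foldl (fun acc b => acc * 32 + (enc (g.1 (pt b))).val) 0
    refine le_card_of_nodup key C.p C.n x ?_
    have hkey : ∀ w, key (ev x w) = wordKey xs base w := by
      intro w
      simp only [key, wordKey]
      have : ∀ b ∈ base, (enc ((ev x w : H).1 (pt b))).val = tImg xs w b := by
        intro b hb
        rw [hx]
        change tImg xs w (idx (pt b)) = _
        rw [idx_pt (hbase b hb)]
      have aux : ∀ (L : List ℕ), (∀ b ∈ L, (enc ((ev x w : H).1 (pt b))).val = tImg xs w b) →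
          ∀ acc, L.foldl (fun acc b => acc * 32 + (enc ((ev x w : H).1 (pt b))).val) acc =
            L.foldl (fun acc b => acc * 32 + tImg xs w b) acc := by
        intro L
        induction L with
        | nil => intro _ acc; rfl
        | cons b L ih =>
          intro hL acc
          rw [List.foldl_cons, List.foldl_cons, hL b List.mem_cons_self,
            ih (fun c hc => hL c (List.mem_cons_of_mem _ hc))]
      exact aux base this 0
    simpa only [hkey] using hnodup
  obtain ⟨W, hW, hk, hz⟩ := ker_pow_mem_zpowers C S k σ hσ hspan x hr hf hcard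
  refine ⟨W, hW, hk, fun z hzk => ?_⟩
  have hshape : shaped C.p C.n C.rules = true := by
    simp only [spanOK, Bool.and_eq_true] at hspan
    exact hspan.1.1.1.1.1.1
  have hS : Nat.card (tailSubgroup x C.n 0) = C.p ^ C.n :=
    le_antisymm (card_tailSubgroup_le x hshape hr C.n 0 (Nat.zero_add _)) hcard
  have hidx := Subgroup.index_mul_card (tailSubgroup x C.n 0)
  rw [hS, hN, Nat.mul_comm] at hidx
  rw [← Nat.eq_of_mul_eq_mul_left (pow_pos hp.pos _) hidx]
  exact hz z hzk

end CfsgLib.MTwelveCover
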