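import Cfsg.Agent.Schur.PcCover

/-!
# Tails of a power-commutator presentation in a stem extension

Chosen lifts of the generators satisfy the rules up to central tails, and the tails (with auxiliary
elements for the fusions) satisfy all equations of the certificate.
-/

set_option autoImplicit false
set_option linter.style.haveILetI false

namespace CfsgLib.MTwelveCover

open CfsgLib.Schur CfsgLib.Schur.Pc

/-- Lifts and tails satisfying the equations of a certificate. -/
theorem exists_tails {G Γ : Type*} [Group G] [Group Γ] (C : Cert) (σ : Γ →* G)
    (hσ : Cfsg.IsStemExtension σ) (x : ℕ → G)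
    (hrules : ∀ q ∈ C.rules, ev x q.1 = ev x q.2)
    (hfus : ∀ F ∈ C.fus, ∃ g : G, ∀ s < C.fusW,
      g * ev x (F.1.getD s []) * g⁻¹ = ev x (F.2.getD s [])) :
    ∃ Y t : ℕ → Γ, (∀ i, σ (Y i) = x i) ∧ (∀ i, t i ∈ σ.ker) ∧ Holds Y t C.rules 0 ∧
      ∀ e ∈ C.equations, ev t e.1 = ev t e.2 := by
  classical
  obtain ⟨hsurj, hcen, hcomm⟩ := hσ
  let Y : ℕ → Γ := fun i => (hsurj (x i)).choose
  have hY : ∀ i, σ (Y i) = x i := fun i => (hsurj (x i)).choose_spec
  have hYev : ∀ w, σ (ev Y w) = ev x w := fun w => by
    rw [map_ev]; exact congrArg (fun y => ev y w) (funext hY)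
  have hg : ∀ f : ℕ, ∃ Gf : Γ, ∀ F, C.fus[f]? = some F → ∀ s < C.fusW,
      (ev Y (F.2.getD s []))⁻¹ * (Gf * ev Y (F.1.getD s []) * Gf⁻¹) ∈ σ.ker := by
    intro f
    rcases hF : C.fus[f]? with _ | F
    · exact ⟨1, fun F h => by simp at h⟩
    · obtain ⟨g, hg⟩ := hfus F (List.mem_of_getElem? hF)
      obtain ⟨Gf, rfl⟩ := hsurj g
      refine ⟨Gf, fun F' h s hs => ?_⟩
      rw [Option.some.injEq] at h
      subst h
      rw [MonoidHom.mem_ker]
      simp only [map_mul, map_inv, hYev]
      rw [hg s hs, inv_mul_cancel]
  choose Gf hGf using hg
  let t : ℕ → Γ := fun i =>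
    if h : i < C.rules.length then (ev Y C.rules[i].2)⁻¹ * ev Y C.rules[i].1
    else
      match C.fus[(i - C.rules.length) / C.fusW]? with
      | none => 1
      | some F =>
        if 0 < C.fusW then
          (ev Y (F.2.getD ((i - C.rules.length) % C.fusW) []))⁻¹ *
            (Gf ((i - C.rules.length) / C.fusW) *
              ev Y (F.1.getD ((i - C.rules.length) % C.fusW) []) *
              (Gf ((i - C.rules.length) / C.fusW))⁻¹)
        else 1
  have htker : ∀ i, t i ∈ σ.ker := by
    intro i
    simp only [t]
    by_cases h : i < C.rules.length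
    · rw [dif_pos h, MonoidHom.mem_ker, map_mul, map_inv, hYev, hYev,
        hrules _ (List.getElem_mem h), inv_mul_cancel]
    · rw [dif_neg h]
      split
      · exact one_mem _
      · rename_i F hF
        split_ifs with hw
        · exact hGf _ F hF _ (Nat.mod_lt _ hw)
        · exact one_mem _
  have ht : ∀ i, t i ∈ Subgroup.center Γ := fun i => hcen (htker i)
  have hH : Holds Y t C.rules 0 := by
    intro i hi
    simp only [t, Nat.zero_add, dif_pos hi, mul_inv_cancel_left]
  have hderive : ∀ q w, ev Y w = ev Y (C.derive q w).1 * ev t (C.derive q w).2 := by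
    intro q w
    rw [Cert.derive, ev_append]
    conv_lhs => rw [rewriteAt_sound ht hH q w, collect_sound ht hH C.fuel (rewriteAt C.rules q w).1]
    rw [mul_assoc, comm_center (ev_mem_center ht _)]
  have hequations : ∀ e ∈ C.equations, ev t e.1 = ev t e.2 := by
    intro e he
    simp only [Cert.equations, List.mem_append, List.mem_map] at he
    rcases he with ⟨a, -, rfl⟩ | ⟨⟨f, w, w'⟩, -, rfl⟩
    · simp only [Cert.assocEq]
      split_ifs with h
      · rw [beq_iff_eq] at h
        have e1 := hderive a.2.1 a.1
        have e2 := hderive a.2.2 a.1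
        rw [h] at e1
        exact mul_left_cancel (e1.symm.trans e2)
      · rfl
    · simp only [Cert.fusionEq]
      split
      · rfl
      · rename_i F hF
        simp only [Cert.fusionEqAux]
        split_ifs with h
        · simp only [Bool.and_eq_true, beq_iff_eq, List.all_eq_true, decide_eq_true_eq,
            List.mem_append] at h
          obtain ⟨⟨h1, h2⟩, h3⟩ := h
          have hconj : ∀ v : List ℕ, (∀ s ∈ v, s < C.fusW) →
              MulAut.conj (Gf f) (ev Y (Cert.subst F.1 v)) =
                ev Y (Cert.subst F.2 v) * ev t (v.map (C.aux f)) := by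
            intro v hv
            induction v with
            | nil => simp [Cert.subst]
            | cons s v ih =>
              have hs : s < C.fusW := hv s List.mem_cons_self
              have haux : t (C.aux f s) = (ev Y (F.2.getD s []))⁻¹ *
                  (Gf f * ev Y (F.1.getD s []) * (Gf f)⁻¹) := by
                have hdiv : (f * C.fusW + s) / C.fusW = f := by
                  rw [Nat.add_comm, Nat.add_mul_div_right _ _ (by omega), Nat.div_eq_of_lt hs]
                  simp
                have hmod : (f * C.fusW + s) % C.fusW = s := by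
                  rw [Nat.add_comm, Nat.add_mul_mod_self_right, Nat.mod_eq_of_lt hs]
                simp only [t, Cert.aux]
                rw [dif_neg (by omega)]
                simp only [Nat.add_sub_cancel_left, hdiv, hmod, hF]
                rw [if_pos (by omega)]
              have ih' := ih fun a ha => hv a (List.mem_cons_of_mem _ ha)
              simp only [Cert.subst, List.flatMap_cons, List.map_cons, ev_append, ev_cons,
                map_mul] at ih' ⊢
              rw [ih', MulAut.conj_apply]
              have : Gf f * ev Y (F.1.getD s []) * (Gf f)⁻¹ =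
                  ev Y (F.2.getD s []) * t (C.aux f s) := by
                rw [haux, mul_inv_cancel_left]
              rw [this]
              simp only [mul_assoc]
              congr 1
              rw [← mul_assoc, comm_center (ht _), mul_assoc]
          have a1 := hconj w fun s hs => h3 s (Or.inl hs)
          have a2 := hconj w' fun s hs => h3 s (Or.inr hs)
          rw [collect_sound ht hH C.fuel (Cert.subst F.1 w),
            collect_sound ht hH C.fuel (Cert.subst F.2 w)] at a1
          rw [collect_sound ht hH C.fuel (Cert.subst F.1 w'),
            collect_sound ht hH C.fuel (Cert.subst F.2 w'), ← h1, ← h2] at a2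
          simp only [ev_append]
          generalize ev Y (collect C.rules C.fuel (Cert.subst F.1 w)).1 = E at a1 a2
          generalize ev Y (collect C.rules C.fuel (Cert.subst F.2 w)).1 = E' at a1 a2
          generalize hA : ev t (collect C.rules C.fuel (Cert.subst F.1 w)).2 = A at a1 ⊢
          generalize hA' : ev t (collect C.rules C.fuel (Cert.subst F.1 w')).2 = A' at a2 ⊢
          generalize hB : ev t (collect C.rules C.fuel (Cert.subst F.2 w)).2 = B at a1 ⊢
          generalize hB' : ev t (collect C.rules C.fuel (Cert.subst F.2 w')).2 = B' at a2 ⊢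
          generalize hS : ev t (w.map (C.aux f)) = S at a1 ⊢
          generalize hS' : ev t (w'.map (C.aux f)) = S' at a2 ⊢
          have hA'c : A' ∈ Subgroup.center Γ := hA' ▸ ev_mem_center ht _
          have hAc : A ∈ Subgroup.center Γ := hA ▸ ev_mem_center ht _
          rw [map_mul, MulAut.conj_apply _ A] at a1
          rw [map_mul, MulAut.conj_apply _ A'] at a2
          rw [show Gf f * A * (Gf f)⁻¹ = A by
            rw [← comm_center hAc, mul_inv_cancel_right]] at a1
          rw [show Gf f * A' * (Gf f)⁻¹ = A' by
            rw [← comm_center hA'c, mul_inv_cancel_right]] at a2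
          have h4 : MulAut.conj (Gf f) E * (A * A') = E' * (B * S * A') := by
            rw [← mul_assoc, a1]; simp only [mul_assoc]
          have h5 : MulAut.conj (Gf f) E * (A * A') = E' * (B' * S' * A) := by
            rw [comm_center hAc, ← mul_assoc, a2]; simp only [mul_assoc]
          exact mul_left_cancel (h4.symm.trans h5)
        · rfl
  exact ⟨Y, t, hY, htker, hH, hequations⟩

end CfsgLib.MTwelveCover
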